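import Cfsg.Agent.Lib.Lie.Chev.CoxTorus.E6.CoxData

/-!
# The Coxeter element of type E₆: the facts about the Weyl group
-/

set_option autoImplicit false
set_option maxRecDepth 100000

namespace CfsgLib.Lie.CoxTorusE6

open Cfsg.Lie CfsgLib.Lie.Chev CfsgLib.Lie.CoxTorus CfsgLib.Lie.Homocyclic
open Matrix Polynomial

theorem nroots72 : chevE6.nroots = 72 := by decide +kernel

theorem cox_mem : cox ∈ cE6.G.Wg := cE6.G.pw_mem _

theorem cox_val (i : ℕ) (s : Fin chevE6.nroots) : ((cox ^ i) s).val = coxI i s.val :=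
  pow_val (p := wordF fastE6 coxW) (fun r => pwOf_val (show wordB coxW = true from rfl) r) i s

theorem rho_cox_pow (i : ℕ) (s : Fin chevE6.nroots) (k : Fin chevE6.rank) :
    cE6.G.rho ((cox ^ i) s) k = rc (coxI i s.val) k.val := by
  rw [rho_getD, cox_val]; rfl

theorem wm_cox_pow (i : ℕ) (j k : Fin chevE6.rank) :
    (wm cE6 cox ^ i) j k = rc (coxI i (fastE6.simples.get j.val)) k.val := by
  rw [← wm_pow cE6 cox_mem, wm, Matrix.of_apply, rho_cox_pow, simp_val']

theorem wm_cox (j k : Fin chevE6.rank) : wm cE6 cox j k = N0 j.val k.val := by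
  rw [← pow_one (wm cE6 cox), wm_cox_pow]; rfl

theorem cox_pow_twelve : wm cE6 cox ^ 12 = 1 := by
  ext j k
  rw [wm_cox_pow, show coxI 12 (fastE6.simples.get j.val) = fastE6.simples.get j.val from
    cox_ord ⟨j.val, rank6 ▸ j.isLt⟩, Matrix.one_apply]
  have h : rc (fastE6.simples.get j.val) k.val = cE6.G.rho (cE6.G.simp' j) k := by
    rw [rho_getD, simp_val']; rfl
  rw [h, cE6.G.rho_simp, Pi.single_apply]
  simp only [eq_comm]

/-- a sum over the rank as a sum over six indices -/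
theorem sum6 {M : Type*} [AddCommMonoid M] (f : Fin chevE6.rank → M) :
    ∑ k, f k = ∑ k : Fin 6, f (Fin.cast rank6.symm k) :=
  (Fintype.sum_equiv (finCongr rank6.symm) _ _ fun _ => rfl).symm

section

variable {r : ℕ} [Fact r.Prime] {e : Fin chevE6.rank → ZMod r} {μ : ZMod r}

theorem phi_zero (hμ : IsPrimitiveRoot μ 12) : μ ^ 4 - μ ^ 2 + 1 = 0 := by
  have h6 : μ ^ 6 = -1 := by
    have h := (hμ.pow (by norm_num : 0 < 12) (show 12 = 6 * 2 from rfl))
    exact h.eq_neg_one_of_two_right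
  have h2 : μ ^ 2 + 1 ≠ 0 := fun h => hμ.pow_ne_one_of_pos_of_lt (l := 4) (by norm_num) (by norm_num)
    (by linear_combination (μ ^ 2 - 1) * h)
  exact (mul_eq_zero.1 (show (μ ^ 2 + 1) * (μ ^ 4 - μ ^ 2 + 1) = 0 by
    linear_combination h6)).resolve_left h2

/-- the eigenvector is regular -/
theorem cox_reg (he : e ≠ 0) (hμ : IsPrimitiveRoot μ 12)
    (hev : red (ZMod r) (wm cE6 cox) *ᵥ e = μ • e) (hr : r ≠ 2) (s : Fin chevE6.nroots) :
    (fun k => (cE6.G.rho s k : ZMod r)) ⬝ᵥ e ≠ 0 := by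
  intro hs
  obtain ⟨t, i, hti⟩ := reg_cover (Fin.cast nroots72 s)
  have hpow : ∀ m : ℕ, (fun k => (cE6.G.rho ((cox ^ m) s) k : ZMod r)) ⬝ᵥ e = 0 := by
    intro m
    have h1 : (fun k => (cE6.G.rho ((cox ^ m) s) k : ZMod r)) =
        (fun k => (cE6.G.rho s k : ZMod r)) ᵥ* red (ZMod r) (wm cE6 cox) ^ m := by
      rw [← map_pow, ← wm_pow cE6 cox_mem, rho_perm cE6 (pow_mem cox_mem m)]
      funext k
      simp [Matrix.vecMul, dotProduct, red_apply]
    rw [h1, ← dotProduct_mulVec, pow_mulVec_eigen hev, dotProduct_smul, hs, smul_zero]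
  set e' : Fin 6 → ZMod r := fun k => e (Fin.cast rank6.symm k)
  have horb : ∀ m : ℕ, ∑ k : Fin 6, ((rc (coxI m (orbRep t)) k.val : ℤ) : ZMod r) * e' k = 0 := by
    intro m
    have h2 := hpow (m + i.val)
    rw [dotProduct, sum6] at h2
    rw [← h2]
    refine Finset.sum_congr rfl fun k _ => ?_
    have e1 : coxI (m + i.val) s.val = coxI m (orbRep t) := by
      rw [← cox_val, pow_add, Equiv.Perm.mul_apply, cox_val, cox_val]
      exact congrArg (coxI m) hti
    rw [rho_cox_pow, e1]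
    rfl
  have hphi : ∀ j : Fin 6, ∑ k : Fin 6, ((phiRow j.val k.val : ℤ) : ZMod r) * e' k = 0 := by
    intro j
    have h : ∀ m : ℕ, ∑ k : Fin 6, ((rc (coxI m (fastE6.simples.get j.val)) k.val : ℤ) : ZMod r) *
        e' k = μ ^ m * e' j := by
      intro m
      have h3 := congrFun (pow_mulVec_eigen hev m) (Fin.cast rank6.symm j)
      rw [← map_pow, Matrix.mulVec, dotProduct, sum6, Pi.smul_apply, smul_eq_mul] at h3
      rw [← h3]
      refine Finset.sum_congr rfl fun k _ => ?_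
      rw [red_apply, wm_cox_pow]
      rfl
    have hδ : ∑ k : Fin 6, (((if j.val = k.val then 1 else 0 : ℤ)) : ZMod r) * e' k = e' j := by
      rw [Finset.sum_eq_single j]
      · simp
      · intro b _ hb
        rw [if_neg (fun e0 => hb (Fin.ext e0.symm)), Int.cast_zero, zero_mul]
      · simp
    simp only [phiRow, Int.cast_add, Int.cast_sub, add_mul, sub_mul, Finset.sum_add_distrib,
      Finset.sum_sub_distrib, h, hδ]
    linear_combination (e' j) * phi_zero hμ
  have hrows : ∀ b : Fin 6, ∑ k : Fin 6, ((regRow t b k.val : ℤ) : ZMod r) * e' k = 0 := by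
    intro b
    unfold regRow
    split
    · exact horb _
    · split
      · exact hphi 0
      · exact hphi 2
  refine he (funext fun a₀ => ?_)
  set a : Fin 6 := Fin.cast rank6 a₀
  have h4 : ((4 : ℤ) : ZMod r) * e' a = 0 := by
    calc ((4 : ℤ) : ZMod r) * e' a
        = ∑ k : Fin 6, ((∑ b, regY t a b * regRow t b k.val : ℤ) : ZMod r) * e' k := by
          simp only [reg_inv]
          rw [Finset.sum_eq_single a]
          · simp
          · intro b _ hb; simp [Ne.symm hb]
          · simp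
      _ = ∑ b, ((regY t a b : ℤ) : ZMod r) * ∑ k : Fin 6, ((regRow t b k.val : ℤ) : ZMod r) * e' k := by
          simp only [Int.cast_sum, Int.cast_mul, Finset.sum_mul, Finset.mul_sum, mul_assoc]
          exact Finset.sum_comm
      _ = 0 := by simp only [hrows, mul_zero, Finset.sum_const_zero]
  refine (mul_eq_zero.1 h4).resolve_left ?_
  rw [Int.cast_ofNat, show (4 : ZMod r) = 2 * 2 by norm_num, mul_self_eq_zero]
  intro h2
  have : (r : ℕ) ∣ 2 := (ZMod.natCast_eq_zero_iff _ _).1 (by exact_mod_cast h2)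
  exact hr ((Nat.prime_dvd_prime_iff_eq (Fact.out : r.Prime) Nat.prime_two).1 this)

/-- only the identity commutes with the Coxeter element and fixes the eigenvector -/
theorem cox_centr (he : e ≠ 0) (hμ : IsPrimitiveRoot μ 12)
    (hev : red (ZMod r) (wm cE6 cox) *ᵥ e = μ • e) {π : Equiv.Perm (Fin chevE6.nroots)}
    (hπ : π ∈ cE6.G.Wg) (hc : π * cox = cox * π) (hfix : red (ZMod r) (wm cE6 π) *ᵥ e = e) :
    π = 1 := by
  set a : Fin chevE6.nroots := ⟨2, by rw [nroots72]; norm_num⟩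
  set b := π a
  have hcomm : ∀ k : ℕ, π ((cox ^ k) a) = (cox ^ k) b := fun k => by
    rw [← Equiv.Perm.mul_apply, (Commute.pow_right hc k).eq, Equiv.Perm.mul_apply]
  have himg : ∀ j c : Fin 6, cE6.G.rho (π (cE6.G.simp' (Fin.cast rank6.symm j))) (Fin.cast rank6.symm c)
      = imgRow b.val j c := by
    intro j c
    have h1 : cE6.G.rho (cE6.G.simp' (Fin.cast rank6.symm j)) =
        ∑ k : Fin 6, cycY j k • cE6.G.rho ((cox ^ k.val) a) := by
      funext d
      rw [cE6.G.rho_simp, Pi.single_apply, Finset.sum_apply]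
      simp only [Pi.smul_apply, smul_eq_mul, rho_cox_pow]
      refine Eq.trans ?_ (cyc_inv j (Fin.cast rank6 d)).symm
      by_cases hjd : j = Fin.cast rank6 d
      · rw [if_pos hjd, if_pos]; subst hjd; rfl
      · rw [if_neg hjd, if_neg]; rintro rfl; exact hjd rfl
    rw [rho_perm cE6 hπ, h1, Matrix.sum_vecMul, Finset.sum_apply, imgRow]
    refine Finset.sum_congr rfl fun k _ => ?_
    rw [Matrix.smul_vecMul, Pi.smul_apply, smul_eq_mul, ← rho_perm cE6 hπ, hcomm, rho_cox_pow]
    rfl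
  rcases centr_cases (Fin.cast nroots72 b) with ⟨j, hj⟩ | ⟨i, hi⟩ | ⟨i, hi⟩
  · obtain ⟨c, hc'⟩ := hj (Fin.cast nroots72 (π (cE6.G.simp' (Fin.cast rank6.symm j))))
    exact absurd ((himg j c).symm.trans (rho_getD _ _)) hc'
  · have e1 : π = cox ^ i.val := ext_simp hπ (pow_mem cox_mem _) fun j => cE6.G.rho_injective
      (funext fun c => (himg (Fin.cast rank6 j) (Fin.cast rank6 c)).trans
        ((hi (Fin.cast rank6 j) (Fin.cast rank6 c)).trans (by
          rw [rho_cox_pow, simp_val']; rfl)))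
    rw [e1, wm_pow cE6 cox_mem, map_pow, pow_mulVec_eigen hev] at hfix
    obtain ⟨j₀, hj⟩ := Function.ne_iff.1 he
    have h2 := congrFun hfix j₀
    rw [Pi.smul_apply, smul_eq_mul] at h2
    have h3 := hμ.dvd_of_pow_eq_one _ (mul_right_cancel₀ hj (h2.trans (one_mul _).symm))
    rw [e1, Nat.eq_zero_of_dvd_of_lt h3 i.isLt, pow_zero]
  · exfalso
    have hw : wm cE6 π = - wm cE6 (cox ^ i.val) := by
      ext j c
      rw [Matrix.neg_apply, wm, Matrix.of_apply, wm_pow cE6 cox_mem, wm_cox_pow]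
      exact (himg (Fin.cast rank6 j) (Fin.cast rank6 c)).trans (hi (Fin.cast rank6 j) (Fin.cast rank6 c))
    obtain ⟨l, hl⟩ := cE6.G.exists_pw (mul_mem (inv_mem (pow_mem cox_mem i.val)) hπ)
    refine notNegE6 cE6.G l fun s => ?_
    have h4 : π s = cE6.G.negr ((cox ^ i.val) s) := cE6.G.rho_injective (by
      rw [cE6.G.rho_negr, rho_perm cE6 hπ, rho_perm cE6 (pow_mem cox_mem _), hw, Matrix.vecMul_neg])
    obtain ⟨l', hl'⟩ := cE6.G.exists_pw (inv_mem (pow_mem cox_mem i.val))
    rw [hl, Equiv.Perm.mul_apply, h4, ← hl', cE6.G.pw_negr, hl', Equiv.Perm.inv_def,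
      Equiv.symm_apply_apply]

end

/-- the characteristic polynomial -/
theorem cox_det (q : ℤ) : (q • (1 : Matrix (Fin chevE6.rank) (Fin chevE6.rank) ℤ) - wm cE6 cox).det =
    (q ^ 4 - q ^ 2 + 1) * (q ^ 2 + q + 1) := by
  set M : Matrix (Fin 6) (Fin 6) ℤ := Matrix.of fun a b => N0 a.val b.val with hM
  have h0 : (q • (1 : Matrix (Fin chevE6.rank) (Fin chevE6.rank) ℤ) - wm cE6 cox).det =
      M.charpoly.eval q := by
    rw [Matrix.eval_charpoly, Matrix.scalar_apply, ← Matrix.smul_one_eq_diagonal,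
      ← Matrix.det_submatrix_equiv_self (finCongr rank6.symm)]
    congr 1
    ext a b
    simp only [hM, Matrix.submatrix_apply, Matrix.diagonal_apply, Matrix.sub_apply, Matrix.smul_apply,
      Matrix.one_apply, Matrix.of_apply, smul_eq_mul, wm_cox, Fin.ext_iff]
    simp
  rw [h0]
  set P : ℤ[X] := (X ^ 4 - X ^ 2 + 1) * (X ^ 2 + X + 1) with hP
  suffices h : M.charpoly = P by rw [h, hP]; simp
  have hPm : P.Monic := by rw [hP]; monicity!
  have hPd : P.natDegree = 6 := by rw [hP]; compute_degree!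
  have hMd : M.charpoly.natDegree = 6 := by simp [Matrix.charpoly_natDegree_eq_dim]
  refine sub_eq_zero.1 (Polynomial.eq_zero_of_natDegree_lt_card_of_eval_eq_zero _
    (f := fun i : Fin 7 => (i.val : ℤ)) (fun a b e => Fin.ext (Int.natCast_inj.1 e)) (fun i => ?_) ?_)
  · have hd := det_values i
    rw [eval_sub, Matrix.eval_charpoly, Matrix.scalar_apply, sub_eq_zero]
    refine Eq.trans ?_ (hd.trans (by simp [hP]))
    congr 1
  · rw [Fintype.card_fin]
    calc (M.charpoly - P).natDegree ≤ max M.charpoly.natDegree P.natDegree := natDegree_sub_le _ _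
      _ < 7 := by rw [hMd, hPd]; norm_num

end CfsgLib.Lie.CoxTorusE6
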