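import Cfsg.Agent.Lib.Lie.Chev.CoxTorus.E6.WeylSpec

/-!
# The Coxeter element of type E₆: regular eigenvectors, centraliser, characteristic polynomial
-/

set_option autoImplicit false
set_option maxRecDepth 100000

namespace CfsgLib.Lie.CoxTorusE6

open Cfsg.Lie CfsgLib.Lie.Chev CfsgLib.Lie.CoxTorus CfsgLib.Lie.Homocyclic
open Matrix Polynomial

/-- the roots one in each orbit of the Coxeter element -/
def orbRep (t : Fin 6) : ℕ := ([0, 2, 3, 6, 8, 12] : List ℕ).getD t.val 0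

/-- four times inverses of the matrices of the relations -/
def regY (t : Fin 6) (a b : Fin 6) : ℤ :=
  ((([[[-2, 0, 4, -2, 0, -2], [-4, 4, 0, 0, 0, 0], [2, -2, -2, 4, 2, 2], [0, -2, 2, -2, -2, 0], [2, 0, -4, 2, 0, -2], [-2, 2, 2, -4, 2, 2]], [[4, -4, 0, 4, 4, -4], [-4, 0, 8, -4, -8, -4], [-4, 4, 0, 0, 0, 4], [4, -4, -4, 4, 4, 0], [-4, 4, 0, -4, -4, 0], [4, -4, 0, 0, 4, 0]], [[-4, 4, 0, 0, -4, -4], [4, -4, -4, 8, 8, 8], [0, -4, 4, 0, 4, 0], [-4, 4, 0, -4, -8, -4], [4, -4, 0, 0, 4, 0], [0, 4, -4, 0, 0, 4]], [[-2, 2, 2, 0, 0, -2], [0, 0, 0, 4, 0, 0], [0, -2, 2, 2, 2, 2], [-2, 0, 0, -2, -2, 0], [2, -2, -2, 0, 0, -2], [0, 2, -2, -2, 2, 2]], [[-4, 0, 4, 0, -4, -4], [-4, 0, 0, 4, 0, 0], [0, -4, 0, 4, 4, 0], [0, 0, 0, -4, -4, 0], [4, 0, -4, 0, 4, 0], [0, 4, 0, -4, 0, 4]], [[0, 0, 0, 4, 0, -4], [0, -4, 4, 4, -4, -4], [-4, 0, 4, 0, 0, 4], [0, 0, -4, 0, 0, 0], [0, 0, 0, -4, 0, 0], [4, 0, -4, 0, 4, 0]]] : List (List (List ℤ))).getD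 t.val []).getD a.val []).getD b.val 0

/-- the inverse of the matrix of the orbit of the root `2` -/
def cycY (a b : Fin 6) : ℤ :=
  (([[2, 1, -1, -1, 1, 2], [0, -1, 1, 0, 1, -1], [-2, 0, 1, 1, -1, -1], [1, 0, -1, 0, 0, 1], [-1, 0, 0, 0, 0, -1], [1, 0, 0, -1, 0, 1]] : List (List ℤ)).getD a.val []).getD b.val 0

/-- the `i`-th power of the Coxeter element on the root indices -/
noncomputable def coxI (i x : ℕ) : ℕ := iterN (wordF fastE6 coxW) i x

/-- a coordinate of a root -/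
noncomputable def rc (x k : ℕ) : ℤ := (fastE6.rho.get x).getD k 0

/-- the matrix of the Coxeter element -/
noncomputable def N0 (j k : ℕ) : ℤ := rc (coxI 1 (fastE6.simples.get j)) k

/-- an entry of `N⁴ - N² + 1` -/
noncomputable def phiRow (j k : ℕ) : ℤ :=
  rc (coxI 4 (fastE6.simples.get j)) k - rc (coxI 2 (fastE6.simples.get j)) k +
    (if j = k then 1 else 0)

/-- the rows of the relations -/
noncomputable def regRow (t i : Fin 6) (k : ℕ) : ℤ :=
  if i.val < 4 then rc (coxI i.val (orbRep t)) k else if i.val = 4 then phiRow 0 k else phiRow 2 k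

theorem reg_inv : ∀ t a c : Fin 6,
    ∑ b, regY t a b * regRow t b c.val = if a = c then 4 else 0 := by decide +kernel

theorem reg_cover : ∀ s : Fin 72, ∃ t : Fin 6, ∃ i : Fin 12, coxI i.val s.val = orbRep t := by
  decide +kernel

theorem cyc_inv : ∀ a c : Fin 6,
    ∑ b : Fin 6, cycY a b * rc (coxI b.val 2) c.val = if a = c then 1 else 0 := by decide +kernel

/-- the image of a fundamental root under the map sending the orbit of `2` to the orbit of `b` -/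
noncomputable def imgRow (b : ℕ) (j c : Fin 6) : ℤ :=
  ∑ k : Fin 6, cycY j k * rc (coxI k.val b) c.val

theorem centr_cases : ∀ b : Fin 72, (∃ j : Fin 6, ∀ x : Fin 72, ∃ c : Fin 6, imgRow b.val j c ≠ rc x.val c.val) ∨
    (∃ i : Fin 12, ∀ j c : Fin 6, imgRow b.val j c = rc (coxI i.val (fastE6.simples.get j.val)) c.val) ∨
    ∃ i : Fin 12, ∀ j c : Fin 6,
      imgRow b.val j c = - rc (coxI i.val (fastE6.simples.get j.val)) c.val := by
  decide +kernel

theorem cox_ord : ∀ j : Fin 6, coxI 12 (fastE6.simples.get j.val) = fastE6.simples.get j.val := by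
  decide +kernel

theorem det_values : ∀ i : Fin 7,
    (Matrix.of fun a b : Fin 6 => (if a = b then (i.val : ℤ) else 0) - N0 a.val b.val).det =
      ((i.val : ℤ) ^ 4 - (i.val : ℤ) ^ 2 + 1) * ((i.val : ℤ) ^ 2 + (i.val : ℤ) + 1) := by
  decide +kernel

end CfsgLib.Lie.CoxTorusE6
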