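import Cfsg.Agent.Lib.Lie.Chev.CoxTorus.WMat
import Cfsg.Agent.Lib.Lie.Chev.TorCard

/-!
# The matrices over the small field that lie in the Chevalley group over the large one

They are products of a diagonal element and an element of the Chevalley group over the small field.
-/

set_option autoImplicit false

namespace CfsgLib.Lie.CoxTorusE6

open Cfsg.Lie CfsgLib.Lie.Chev CfsgLib.Lie.CoxTorus
open scoped MatrixGroups

variable {D : ChevalleyDatum} (C : Full D) {F L : Type*} [Field F] [Field L]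

/-- the matrices over `F` that lie in the group over `L` -/
def fixedGrp (D : ChevalleyDatum) (ι : F →+* L) : Subgroup (GL D.Idx F) :=
  (D.group L).comap (fmap D ι)

include C

theorem group_le_fixed (ι : F →+* L) : D.group F ≤ fixedGrp D ι :=
  fun _ hg => C.G.fmap_mem_group ι hg

theorem tor_normalises_group (v : Fin D.rank → Fˣ) {g : GL D.Idx F} (hg : g ∈ D.group F) :
    C.G.tor v * g * (C.G.tor v)⁻¹ ∈ D.group F := by
  have hle : D.group F ≤ (D.group F).comap (MulAut.conj (C.G.tor v)).toMonoidHom := by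
    conv_lhs => rw [C.G.group_eq]
    rw [Subgroup.closure_le]
    rintro _ ⟨r, t, rfl⟩
    show C.G.tor v * C.G.xu r t * (C.G.tor v)⁻¹ ∈ D.group F
    rw [C.G.tor_conj_xu]
    exact C.G.xu_mem r _
  exact hle hg

theorem tor_normalises_group' (v : Fin D.rank → Fˣ) {g : GL D.Idx F} (hg : g ∈ D.group F) :
    (C.G.tor v)⁻¹ * g * C.G.tor v ∈ D.group F := by
  simpa [map_inv] using tor_normalises_group C v⁻¹ hg

/-- a diagonal element times an element of the group over the small field -/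
theorem fixed_decomp (σ : L →+* L) (ι : F →+* L) (hσι : σ.comp ι = ι)
    (hι : ∀ x, σ x = x → ∃ y, ι y = x) {g : GL D.Idx F} (hg : g ∈ fixedGrp D ι) :
    ∃ v : Fin D.rank → Fˣ, (C.G.tor v)⁻¹ * g ∈ D.group F := by
  classical
  have hfix : fmap D σ (fmap D ι g) = fmap D ι g := by rw [fmap_fmap, hσι]
  obtain ⟨b, hb, n, hn, π, hπ, u, hu, e0⟩ := C.refined_exists (K := L) hg
  obtain ⟨h, hh, l, rfl⟩ := C.G.monomial_decomp hn
  obtain ⟨v, hv, d, hd, rfl⟩ := C.G.mem_borel_iff.1 hb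
  set w := C.G.nw (K := L) l
  have hB : v * (d * h) ∈ D.borelSubgroup L :=
    mul_mem (Subgroup.mem_sup_left hv) (Subgroup.mem_sup_right (mul_mem hd hh))
  have hw : C.G.NPerm w π := by
    have h1 := Good.NPerm.mul C.G (C.G.nPerm_H (inv_mem hh)) hπ
    rw [one_mul, ← mul_assoc, inv_mul_cancel, one_mul] at h1
    exact h1
  have e1 : fmap D ι g = v * (d * h) * w * u := by rw [e0]; group
  rw [e1, map_mul, map_mul, map_mul, C.G.fmap_nw] at hfix
  have hσB : fmap D σ v * fmap D σ (d * h) ∈ D.borelSubgroup L :=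
    mul_mem (Subgroup.mem_sup_left (C.G.fmap_mem_U σ hv))
      (Subgroup.mem_sup_right (C.G.fmap_mem_H σ (mul_mem hd hh)))
  obtain ⟨e2, e3⟩ := C.refined_unique hσB hB hw (C.G.fmap_mem_Uinv σ π hu) hu hfix
  have e4 := C.G.eq_one_of_U_H (u := v⁻¹ * fmap D σ v)
    (h := fmap D σ (d * h) * (d * h)⁻¹)
    (mul_mem (inv_mem hv) (C.G.fmap_mem_U σ hv))
    (mul_mem (C.G.fmap_mem_H σ (mul_mem hd hh)) (inv_mem (mul_mem hd hh))) (by
      rw [mul_assoc, ← mul_assoc (fmap D σ v), e2]; group)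
  have fU : ∀ x ∈ D.posUnipotent L, fmap D σ x = x → ∃ y ∈ D.group F, fmap D ι y = x := by
    intro x hx hσx
    rw [C.G.posUnipotent_eq] at hx
    obtain ⟨t, rfl⟩ := C.exists_uprod D.nroots 0 (Nat.zero_add _) x hx
    rw [C.fmap_uprod] at hσx
    have ht := C.uprod_inj D.nroots 0 (Nat.zero_add _) _ _ hσx
    choose y hy using fun r : {r : Fin D.nroots // D.IsPosRoot r.val} =>
      hι (t r.1) (ht r.1 (Nat.zero_le _) r.2)
    refine ⟨C.uprod 0 fun r => if hr : D.IsPosRoot r.val then y ⟨r, hr⟩ else 0, ?_, ?_⟩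
    · refine list_prod_mem fun x hx => ?_
      obtain ⟨r, -, rfl⟩ := List.mem_map.1 hx
      exact C.G.xu_mem r _
    · rw [C.fmap_uprod]
      exact C.uprod_congr fun r _ hr => by rw [dif_pos hr, hy]
  obtain ⟨V, hV, hVe⟩ := fU v hv (inv_mul_eq_one.1 e4.1).symm
  obtain ⟨U, hU, hUe⟩ := fU u (C.G.Uinv_le π hu) e3
  obtain ⟨c, hc⟩ := C.G.exists_tor (mul_mem hd hh)
  have hcσ := mul_inv_eq_one.1 e4.2
  rw [hc, C.G.fmap_tor] at hcσ
  have hcf := tor_inj C hcσ
  choose y hy using fun i => hι (c i : L) (congrArg Units.val (congrFun hcf i))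
  have hy0 : ∀ i, y i ≠ 0 := fun i h0 => (c i).ne_zero (by rw [← hy i, h0, map_zero])
  set v₀ : Fin D.rank → Fˣ := fun i => Units.mk0 (y i) (hy0 i)
  have hT : fmap D ι (C.G.tor v₀) = d * h := by
    rw [hc, C.G.fmap_tor]
    exact congrArg _ (funext fun i => Units.ext (hy i))
  have hW : C.G.nw (K := F) l ∈ D.group F := list_prod_mem fun x hx => by
    obtain ⟨i, -, rfl⟩ := List.mem_map.1 hx
    exact mul_mem (mul_mem (C.G.xu_mem _ _) (C.G.xu_mem _ _)) (C.G.xu_mem _ _)
  have hge : g = V * C.G.tor v₀ * C.G.nw l * U := fmap_injective ι (by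
    rw [map_mul, map_mul, map_mul, hVe, hT, C.G.fmap_nw, hUe, e1])
  refine ⟨v₀, ?_⟩
  rw [hge, show (C.G.tor v₀)⁻¹ * (V * C.G.tor v₀ * C.G.nw l * U) =
    ((C.G.tor v₀)⁻¹ * V * C.G.tor v₀) * (C.G.nw l * U) by group]
  exact mul_mem (tor_normalises_group' C v₀ hV) (mul_mem hW hU)

variable [Fintype F]

/-- the index of the Chevalley group in a subgroup of that group -/
theorem relIndex_le {T : KerData D.rank} (hT : T.Ok (cmat D)) (σ : L →+* L) (ι : F →+* L)
    (hσι : σ.comp ι = ι) (hι : ∀ x, σ x = x → ∃ y, ι y = x) {A : Subgroup (GL D.Idx F)}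
    (hA : A ≤ fixedGrp D ι) :
    (D.group F).relIndex A ≤ (Nat.gcd T.d (Fintype.card F - 1)) ^ T.k := by
  classical
  let f : (Fin D.rank → Fˣ) →* (Fin D.rank → Fˣ) :=
    { toFun := fun c l => ∏ i, c i ^ cart D i (C.G.simp' l)
      map_one' := funext fun l => by simp
      map_mul' := fun a b => funext fun l => by simp [mul_zpow, Finset.prod_mul_distrib] }
  have hθ : C.G.torθ (K := F) = C.G.tor.comp f := rfl
  choose v hv using fun a : A => fixed_decomp C σ ι hσι hι (hA a.2)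
  have hinj : Function.Injective fun x : A ⧸ (D.group F).subgroupOf A =>
      (QuotientGroup.mk (v x.out) : (Fin D.rank → Fˣ) ⧸ f.range) := by
    intro x₁ x₂ hx
    obtain ⟨c, hc⟩ := QuotientGroup.eq.1 hx
    have hθc : C.G.tor ((v x₁.out)⁻¹ * v x₂.out) ∈ D.group F := by
      rw [← hc]
      exact C.G.diagonal_le_group ((C.G.diagonal_eq_range (K := F)).symm ▸ ⟨c, rfl⟩)
    rw [← x₁.out_eq, ← x₂.out_eq]
    refine QuotientGroup.eq.2 ?_
    show ((x₁.out : GL D.Idx F))⁻¹ * (x₂.out : GL D.Idx F) ∈ D.group F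
    have e : ((x₁.out : GL D.Idx F))⁻¹ * (x₂.out : GL D.Idx F) =
        ((C.G.tor (v x₁.out))⁻¹ * (x₁.out : GL D.Idx F))⁻¹ * C.G.tor ((v x₁.out)⁻¹ * v x₂.out) *
          ((C.G.tor (v x₂.out))⁻¹ * (x₂.out : GL D.Idx F)) := by
      rw [map_mul, map_inv]
      group
    rw [e]
    exact mul_mem (mul_mem (inv_mem (hv _)) hθc) (hv _)
  have hrange : Nat.card f.range = Nat.card ↥(D.diagonalSubgroup F) := by
    rw [C.G.diagonal_eq_range, hθ, MonoidHom.range_comp]
    exact (Nat.card_congr (Subgroup.equivMapOfInjective _ _ (tor_inj C)).toEquiv)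
  have hQ : Nat.card ((Fin D.rank → Fˣ) ⧸ f.range) = (Nat.gcd T.d (Fintype.card F - 1)) ^ T.k := by
    have h1 := Subgroup.card_eq_card_quotient_mul_card_subgroup f.range
    rw [hrange, Nat.card_fun, Nat.card_units, Nat.card_fin, Nat.card_eq_fintype_card (α := F),
      ← C.G.card_diagonal (K := F) T hT] at h1
    haveI : Finite ↥(D.diagonalSubgroup F) := by
      rw [C.G.diagonal_eq_range]; infer_instance
    exact (Nat.eq_of_mul_eq_mul_right Nat.card_pos h1).symm
  rw [Subgroup.relIndex, Subgroup.index, ← hQ]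
  exact Nat.card_le_card_of_injective _ hinj

end CfsgLib.Lie.CoxTorusE6
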