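import Cfsg.Agent.Lib.Lie.Chev.CoxTorus.Main
import Cfsg.Agent.Lib.Lie.Chev.CoxTorus.E6.Cox
import Cfsg.Agent.Lib.Lie.Chev.Homocyclic.Cases

/-!
# Preparations for the Coxeter torus of type E₆
-/

set_option autoImplicit false
set_option maxRecDepth 100000

namespace CfsgLib.Lie.CoxTorusE6

open Cfsg.Lie CfsgLib.Lie.Chev CfsgLib.Lie.CoxTorus CfsgLib.Lie.Homocyclic
open scoped MatrixGroups Matrix
open Polynomial

variable {K : Type*} [Field K]

theorem nw_mem6 (l : List (Fin chevE6.rank)) : cE6.G.nw (K := K) l ∈ chevE6.group K := by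
  refine list_prod_mem fun x hx => ?_
  obtain ⟨i, -, rfl⟩ := List.mem_map.1 hx
  exact mul_mem (mul_mem (cE6.G.xu_mem _ _) (cE6.G.xu_mem _ _)) (cE6.G.xu_mem _ _)

/-- elements of prime order are conjugate into the diagonal subgroup -/
theorem exists_conj_diag6 [Fintype K] {r : ℕ} (hr : r.Prime)
    (hdg : ∀ i, ¬ r ∣ vecOfList (l := chevE6.rank) [2, 5, 6, 8, 9, 12] i)
    (hQ : (Fintype.card K : ZMod r) = 1) {x : GL chevE6.Idx K} (hx : x ∈ chevE6.group K)
    (hord : x ^ r = 1) :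
    ∃ c ∈ chevE6.group K, ∃ v : Fin chevE6.rank → Kˣ,
      cE6.G.tor v ∈ chevE6.diagonalSubgroup K ∧ x * c = c * cE6.G.tor v := by
  classical
  haveI := Fact.mk hr
  haveI : Finite (GL chevE6.Idx K) := inferInstance
  set g := (Nat.gcd kerE6.d (Fintype.card K - 1)) ^ kerE6.k
  set T' := (chevE6.diagonalSubgroup K).subgroupOf (chevE6.group K)
  have hcard : g * Nat.card T' = (Fintype.card K - 1) ^ chevE6.rank := by
    rw [Nat.card_congr (Subgroup.subgroupOfEquivOfLe cE6.G.diagonal_le_group).toEquiv]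
    exact cE6.G.card_diagonal kerE6 kerE6_ok
  have hidx : ¬ r ∣ Nat.card (↥(chevE6.group K) ⧸ T') := by
    have h1 := cE6.order_formula (K := K) kerE6 kerE6_ok
    rw [Psum_eq_prod cE6 degE6] at h1
    have h2 := Subgroup.card_eq_card_quotient_mul_card_subgroup T'
    have hK : 1 ≤ Fintype.card K := Fintype.card_pos
    rw [h2, mul_left_comm, hcard, Nat.cast_mul, Nat.cast_pow, Nat.cast_sub hK, Nat.cast_one,
      ← mul_assoc ((Fintype.card K : ℤ) ^ _)] at h1
    have hne : ((Fintype.card K : ℤ) - 1) ^ chevE6.rank ≠ 0 := by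
      have := Fintype.one_lt_card (α := K)
      exact pow_ne_zero _ (by omega)
    have h3 := mul_right_cancel₀ hne h1
    intro hd
    have h4 : ((Nat.card (↥(chevE6.group K) ⧸ T') : ℤ) : ZMod r) = 0 := by
      rw [Int.cast_natCast]
      exact (ZMod.natCast_eq_zero_iff _ _).2 hd
    rw [h3] at h4
    push_cast at h4
    simp only [hQ, one_pow, one_mul, Finset.sum_const, Finset.card_range, nsmul_eq_mul, mul_one,
      Finset.prod_eq_zero_iff, Finset.mem_univ, true_and] at h4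
    obtain ⟨i, hi⟩ := h4
    exact hdg i ((ZMod.natCast_eq_zero_iff _ _).1 hi)
  set X : ↥(chevE6.group K) := ⟨x, hx⟩
  have hX : X ^ r = 1 := Subtype.ext hord
  have hP : IsPGroup r (Subgroup.zpowers X) := by
    rintro ⟨y, hy⟩
    obtain ⟨k, rfl⟩ := Subgroup.mem_zpowers_iff.1 hy
    refine ⟨1, Subtype.ext ?_⟩
    show (X ^ k) ^ r ^ 1 = 1
    rw [pow_one, ← zpow_natCast (X ^ k), ← zpow_mul, mul_comm, zpow_mul, zpow_natCast, hX, one_zpow]
  obtain ⟨P, hP'⟩ := hP.nonempty_fixed_point_of_prime_not_dvd_card (↥(chevE6.group K) ⧸ T') hidx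
  induction P using QuotientGroup.induction_on with
  | H c =>
    have h5 := hP' ⟨X, Subgroup.mem_zpowers X⟩
    have h6 : c⁻¹ * (X * c) ∈ T' := (QuotientGroup.eq).1 h5.symm
    have h7 : ((c⁻¹ * (X * c) : ↥(chevE6.group K)) : GL chevE6.Idx K) ∈ chevE6.diagonalSubgroup K := h6
    obtain ⟨v, hv⟩ := cE6.G.exists_tor h7
    refine ⟨c.1, c.2, v, hv ▸ h7, ?_⟩
    rw [← hv, Subgroup.coe_mul, Subgroup.coe_mul, Subgroup.coe_inv, mul_inv_cancel_left]

/-- an element of the group of prime order `r` -/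
theorem exists_prime_order6 {F : Type*} [Field F] [Fintype F] {r : ℕ} [Fact r.Prime] (hr3 : r ≠ 3)
    (hprim : IsPrimitiveRoot ((Fintype.card F : ℕ) : ZMod r) 12) :
    ∃ x : ↥(chevE6.group F), orderOf x = r := by
  classical
  haveI : Finite (GL chevE6.Idx F) := inferInstance
  refine exists_prime_orderOf_dvd_card' r ?_
  have h1 := congrArg (Int.cast : ℤ → ZMod r) (cE6.order_formula (K := F) kerE6 kerE6_ok)
  rw [Psum_eq_prod cE6 degE6] at h1
  push_cast at h1
  have h2 : (∑ j ∈ Finset.range 12, ((Fintype.card F : ℕ) : ZMod r) ^ j) = 0 := by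
    have h3 := geom_sum_mul ((Fintype.card F : ℕ) : ZMod r) 12
    rw [hprim.pow_eq_one, sub_self, mul_eq_zero] at h3
    exact h3.resolve_right (sub_ne_zero.2 (hprim.ne_one (by norm_num)))
  have h5 : (5 : ℕ) < chevE6.rank := rank6 ▸ (by norm_num)
  rw [Finset.prod_eq_zero (Finset.mem_univ (⟨5, h5⟩ : Fin chevE6.rank)) h2, zero_mul, mul_zero,
    mul_eq_zero] at h1
  rw [← ZMod.natCast_eq_zero_iff]
  refine h1.resolve_left fun hg => ?_
  have hd : r ∣ Nat.gcd kerE6.d (Fintype.card F - 1) := by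
    rw [← ZMod.natCast_eq_zero_iff]
    exact eq_zero_of_pow_eq_zero hg
  exact hr3 ((Nat.prime_dvd_prime_iff_eq (Fact.out : r.Prime) Nat.prime_three).1
    (hd.trans (Nat.gcd_dvd_left _ _)))

/-- three times the inverse of the Cartan matrix -/
def cartB (a b : Fin 6) : ℤ :=
  (([[4, 3, 5, 6, 4, 2], [3, 6, 6, 9, 6, 3], [5, 6, 10, 12, 8, 4], [6, 9, 12, 18, 12, 6],
    [4, 6, 8, 12, 10, 5], [2, 3, 4, 6, 5, 4]] : List (List ℤ)).getD a.val []).getD b.val 0

theorem cartB_spec : ∀ j l : Fin 6,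
    ∑ i : Fin 6, cartB j i * cartF fastE6 i.val (fastE6.simples.get l.val) =
      if j = l then 3 else 0 := by decide +kernel

/-- every cube is in the image of the parametrisation -/
theorem tor_cube_mem (w : Fin chevE6.rank → Kˣ) :
    cE6.G.tor (fun l => w l ^ 3) ∈ chevE6.diagonalSubgroup K := by
  classical
  rw [cE6.G.diagonal_eq_range]
  refine ⟨fun i => ∏ j : Fin 6, w (Fin.cast rank6.symm j) ^ cartB j (Fin.cast rank6 i),
    congrArg cE6.G.tor (funext fun l => ?_)⟩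
  show ∏ i : Fin chevE6.rank,
    (∏ j : Fin 6, w (Fin.cast rank6.symm j) ^ cartB j (Fin.cast rank6 i)) ^
      cart chevE6 i (cE6.G.simp' l) = w l ^ 3
  simp only [← Finset.prod_zpow, ← zpow_mul]
  rw [Finset.prod_comm]
  have h : ∀ j : Fin 6, ∏ i : Fin chevE6.rank, w (Fin.cast rank6.symm j) ^
      (cartB j (Fin.cast rank6 i) * cart chevE6 i (cE6.G.simp' l)) =
      w (Fin.cast rank6.symm j) ^ (if j = Fin.cast rank6 l then (3 : ℤ) else 0) := by
    intro j
    rw [← prod_zpow_sum, ← cartB_spec j (Fin.cast rank6 l)]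
    congr 1
    refine Fintype.sum_equiv (finCongr rank6) _ _ fun i => ?_
    congr 1
    exact ((congrArg (cartF fastE6 i.val) (cE6.G.simples_eq' checksE6 l)).trans
      (cartF_cart (rowsOK checksE6.rows) i (cE6.G.simp' l))).symm
  simp only [h]
  rw [Finset.prod_eq_single (Fin.cast rank6 l)]
  · rw [if_pos rfl, zpow_ofNat]
    rfl
  · intro b _ hb; rw [if_neg hb, zpow_zero]
  · simp

/-- the eigenspace modulo a prime not dividing the order is a line -/
theorem card_eigen_le_of_dvd {l h : ℕ} (N : Matrix (Fin l) (Fin l) ℤ)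
    (hN : N.charpoly ∣ X ^ h - 1) (ℓ : ℕ) [Fact ℓ.Prime] (hℓ : ¬ ℓ ∣ h) (μ : ZMod ℓ) :
    Nat.card {z : Fin l → ZMod ℓ // red (ZMod ℓ) N *ᵥ z = μ • z} ≤ ℓ := by
  classical
  have hne : (h : ZMod ℓ) ≠ 0 := fun e => hℓ ((ZMod.natCast_eq_zero_iff _ _).1 e)
  set f := Matrix.toLin' (red (ZMod ℓ) N)
  have e : Nat.card {z : Fin l → ZMod ℓ // red (ZMod ℓ) N *ᵥ z = μ • z} =
      Nat.card (Module.End.eigenspace f μ) :=
    Nat.card_congr (Equiv.subtypeEquivRight fun z => by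
      rw [Module.End.mem_eigenspace_iff, Matrix.toLin'_apply])
  have hrm : f.charpoly.rootMultiplicity μ ≤ 1 := by
    rw [Matrix.charpoly_toLin', show red (ZMod ℓ) N = N.map (Int.castRingHom (ZMod ℓ)) from rfl,
      Matrix.charpoly_map]
    refine Polynomial.rootMultiplicity_le_one_of_separable ?_ μ
    refine Separable.of_dvd ?_ (Polynomial.map_dvd _ hN)
    rw [Polynomial.map_sub, Polynomial.map_pow, map_X, Polynomial.map_one, ← C_1]
    exact separable_X_pow_sub_C _ hne one_ne_zero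
  rw [e, Module.natCard_eq_pow_finrank (K := ZMod ℓ), Nat.card_zmod]
  refine (Nat.pow_le_pow_right (Fact.out : ℓ.Prime).pos ((LinearMap.finrank_eigenspace_le f μ).trans
    hrm)).trans (le_of_eq (pow_one ℓ))

theorem cox_charpoly :
    (wm cE6 cox).charpoly = (X ^ 4 - X ^ 2 + 1) * (X ^ 2 + X + 1) := by
  refine Polynomial.funext fun q => ?_
  rw [Matrix.eval_charpoly, Matrix.scalar_apply, ← Matrix.smul_one_eq_diagonal, cox_det]
  simp

theorem cox_charpoly_dvd : (wm cE6 cox).charpoly ∣ X ^ 12 - 1 :=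
  ⟨(X - 1) * (X + 1) * (X ^ 2 + 1) * (X ^ 2 - X + 1), by rw [cox_charpoly]; ring⟩

/-- the order of the torus -/
def torOrd (q : ℕ) : ℕ := (q ^ 4 - q ^ 2 + 1) * (q ^ 2 + q + 1)

theorem torOrd_cast (q : ℕ) :
    ((torOrd q : ℕ) : ℤ) = ((q : ℤ) ^ 4 - (q : ℤ) ^ 2 + 1) * ((q : ℤ) ^ 2 + (q : ℤ) + 1) := by
  have h : q ^ 2 ≤ q ^ 4 := by
    rcases Nat.eq_zero_or_pos q with rfl | hq
    · simp
    · exact Nat.pow_le_pow_right hq (by norm_num)
  rw [torOrd]
  push_cast [h]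
  ring

theorem torOrd_not_two (q : ℕ) : ¬ 2 ∣ torOrd q := by
  intro h
  have h1 := (ZMod.intCast_zmod_eq_zero_iff_dvd _ 2).2 (Int.natCast_dvd_natCast.2 h)
  rw [torOrd_cast] at h1
  push_cast at h1
  revert h1
  generalize (q : ZMod 2) = a
  revert a
  decide

theorem torOrd_not_nine (q : ℕ) : ¬ 9 ∣ torOrd q := by
  intro h
  have h1 := (ZMod.intCast_zmod_eq_zero_iff_dvd _ 9).2 (Int.natCast_dvd_natCast.2 h)
  rw [torOrd_cast] at h1
  push_cast at h1
  revert h1
  generalize (q : ZMod 9) = a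
  revert a
  decide

theorem three_dvd_torOrd {q : ℕ} (hq : q % 3 = 1) : 3 ∣ torOrd q := by
  refine dvd_mul_of_dvd_right (Nat.dvd_of_mod_eq_zero ?_) _
  simp [Nat.add_mod, Nat.pow_mod, hq]

theorem torOrd_dvd (q : ℕ) : (torOrd q : ℤ) ∣ (q : ℤ) ^ 12 - 1 := by
  rw [torOrd_cast]
  exact ⟨((q : ℤ) - 1) * ((q : ℤ) + 1) * ((q : ℤ) ^ 2 + 1) * ((q : ℤ) ^ 2 - (q : ℤ) + 1), by ring⟩

end CfsgLib.Lie.CoxTorusE6
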