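import Mathlib.FieldTheory.IsAlgClosed.AlgebraicClosure
import Cfsg.Agent.Lib.Lie.Chev.CoxTorus.E6.TorusBase

/-!
# An element twisted by the Coxeter element of E₆ under the Frobenius map
-/

set_option autoImplicit false
set_option maxRecDepth 100000

namespace CfsgLib.Lie.CoxTorusE6

open Cfsg.Lie CfsgLib.Lie.Chev CfsgLib.Lie.CoxTorus CfsgLib.Lie.Homocyclic
open scoped MatrixGroups Matrix

section

variable {K : Type*} [Field K]

/-- what is known about a diagonalised element -/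
theorem frame {r q : ℕ} [Fact r.Prime] (hr13 : 12 < r) (σ : K →+* K)
    (hσtor : ∀ u : Fin chevE6.rank → Kˣ,
      fmap chevE6 σ (cE6.G.tor u) = cE6.G.tor (fun i => u i ^ q))
    (hprim : IsPrimitiveRoot (q : ZMod r) 12) {γ : Kˣ} (hγ : IsPrimitiveRoot γ r)
    {x c : GL chevE6.Idx K} (hc : c ∈ chevE6.group K) (hσx : fmap chevE6 σ x = x)
    {v : Fin chevE6.rank → Kˣ} (hcv : c⁻¹ * x * c = cE6.G.tor v)
    (hvd : cE6.G.tor v ∈ chevE6.diagonalSubgroup K) (hvr : v ^ r = 1) (hv1 : v ≠ 1) :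
    ∃ c₂ ∈ chevE6.group K, ∃ v₂ : Fin chevE6.rank → Kˣ, ∃ z : Fin chevE6.rank → ℤ,
      c₂⁻¹ * x * c₂ = cE6.G.tor v₂ ∧ cE6.G.tor v₂ ∈ chevE6.diagonalSubgroup K ∧
      (∀ k, v₂ k = γ ^ z k) ∧ (fun k => (z k : ZMod r)) ≠ 0 ∧
      red (ZMod r) (wm cE6 cox) *ᵥ (fun k => (z k : ZMod r)) =
        (q : ZMod r) • (fun k => (z k : ZMod r)) ∧
      Reg cE6 v₂ ∧ c₂⁻¹ * fmap chevE6 σ c₂ ∈ chevE6.monomialSubgroup K ∧
      cE6.G.NPerm (c₂⁻¹ * fmap chevE6 σ c₂) cox := by
  classical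
  have hr : r.Prime := Fact.out
  have expo : ∀ v' : Fin chevE6.rank → Kˣ, v' ^ r = 1 → ∃ z : Fin chevE6.rank → ℤ,
      ∀ k, v' k = γ ^ z k := fun v' hv' => by
    have hzex : ∀ k, ∃ i : ℕ, γ ^ i = v' k := fun k => by
      obtain ⟨i, -, hi⟩ := (IsPrimitiveRoot.coe_units_iff.2 hγ).eq_pow_of_pow_eq_one
        (show (v' k : K) ^ r = 1 by rw [← Units.val_pow_eq_pow_val, ← Pi.pow_apply, hv']; rfl)
      exact ⟨i, Units.ext (by rw [Units.val_pow_eq_pow_val, hi])⟩
    choose i hi using hzex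
    exact ⟨fun k => (i k : ℤ), fun k => by rw [zpow_natCast, hi]⟩
  set m := c⁻¹ * fmap chevE6 σ c with hm
  have hmG : m ∈ chevE6.group K := mul_mem (inv_mem hc) (cE6.G.fmap_mem_group σ hc)
  have hmv : m * cE6.G.tor (fun k => v k ^ q) = cE6.G.tor v * m := by
    rw [← hσtor, ← hcv, map_mul, map_mul, map_inv, hσx, hm]
    group
  have hvqd : cE6.G.tor (fun k => v k ^ q) ∈ chevE6.diagonalSubgroup K := by
    rw [← hσtor]; exact cE6.G.fmap_mem_H σ hvd
  obtain ⟨w, hw, n, hn, π, hπ, u, hu, hmn, hnv, hbw, hau⟩ := twist cE6 hmG hvqd hvd hmv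
  have hπW := mem_Wg_of_monomial cE6 hn hπ
  obtain ⟨z, hz⟩ := expo v hvr
  set e := fun k => (z k : ZMod r)
  have he : e ≠ 0 := fun h0 => hv1 (funext fun k => by
    rw [hz, Pi.one_apply, hγ.zpow_eq_one_iff_dvd]
    exact (ZMod.intCast_zmod_eq_zero_iff_dvd _ _).1 (congrFun h0 k))
  have hvN : ∀ j, ∏ k, v k ^ wm cE6 π j k = v j ^ (q : ℤ) := fun j => by
    rw [← chi_perm_simp cE6 v π j, chi_of_conj cE6 hπ hnv, cE6.G.rho_simp, cE6.G.chi_single,
      zpow_natCast]
  have hev : red (ZMod r) (wm cE6 π) *ᵥ e = (q : ZMod r) • e := by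
    have := (system_iff hγ (wm cE6 π) z (q : ℤ)).1 fun j => by simpa only [← hz] using hvN j
    simpa using this
  obtain ⟨g, hg, hgc⟩ := exists_conj_cox hπW he hprim hev
  obtain ⟨lg, rfl⟩ := cE6.G.exists_pw hg
  set g := cE6.G.pw lg
  have hπg : π = g * cox * g⁻¹ := by rw [← hgc]; group
  set e' := red (ZMod r) (wm cE6 g) *ᵥ e with he'def
  have hgg : ∀ a b : Equiv.Perm (Fin chevE6.nroots), a ∈ cE6.G.Wg → a * b = 1 →
      red (ZMod r) (wm cE6 b) * red (ZMod r) (wm cE6 a) = 1 := fun a b ha hab => by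
    rw [← map_mul, ← wm_mul cE6 ha, hab, wm_one, map_one]
  have he' : e' ≠ 0 := fun h0 => he (by
    have := congrArg (fun a => red (ZMod r) (wm cE6 g⁻¹) *ᵥ a) h0
    simp only [he'def, Matrix.mulVec_mulVec, hgg g g⁻¹ hg (mul_inv_cancel g), Matrix.one_mulVec,
      Matrix.mulVec_zero] at this
    exact this)
  have hev' : red (ZMod r) (wm cE6 cox) *ᵥ e' = (q : ZMod r) • e' := by
    rw [he'def, ← Matrix.mulVec_smul, ← hev, hπg, wm_mul cE6 (mul_mem hg cox_mem),
      wm_mul cE6 hg, map_mul, map_mul]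
    simp only [Matrix.mulVec_mulVec, ← mul_assoc, hgg g⁻¹ g (inv_mem hg) (inv_mul_cancel g),
      one_mul]
  have hrne : r ≠ 2 := by omega
  have hreg : Reg cE6 v := by
    intro s hs
    obtain ⟨s₀, rfl⟩ := g.surjective s
    rw [chi_pow cE6 v hz, hγ.zpow_eq_one_iff_dvd] at hs
    refine cox_reg he' hprim hev' hrne s₀ ?_
    have h1 := (ZMod.intCast_zmod_eq_zero_iff_dvd _ r).2 hs
    rw [rho_perm cE6 hg] at h1
    rw [he'def, Matrix.dotProduct_mulVec]
    refine Eq.trans ?_ h1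
    simp [dotProduct, Matrix.vecMul, red_apply, e]
  have hregq : Reg cE6 (fun k => v k ^ q) := fun s => by
    rw [← chi_of_conj cE6 hπ hnv]
    exact hreg _
  rw [reg_posUnipotent cE6 hreg hw hbw, reg_posUnipotent cE6 hregq hu hau, one_mul, mul_one] at hmn
  rw [← hmn] at hn hπ
  -- moving to the Coxeter element
  set b := cE6.G.nw (K := K) lg with hb
  have hbm : b ∈ chevE6.monomialSubgroup K := cE6.G.nw_mem_monomial lg
  have hv2d' : b⁻¹ * cE6.G.tor v * b ∈ chevE6.diagonalSubgroup K := by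
    have := (Subgroup.mem_normalizer_iff.1
      (inv_mem (cE6.G.monomial_le_normalizer hbm)) _).1 hvd
    rwa [inv_inv] at this
  obtain ⟨v₂, hv₂⟩ := cE6.G.exists_tor hv2d'
  have hv₂r : v₂ ^ r = 1 := by
    refine cE6.G.tor_eq_one ?_
    rw [map_pow, ← hv₂, show b⁻¹ * cE6.G.tor v * b = MulAut.conj b⁻¹ (cE6.G.tor v) by simp,
      ← map_pow, ← map_pow cE6.G.tor, hvr, map_one, map_one]
  obtain ⟨z₂, hz₂⟩ := expo v₂ hv₂r
  have hbv : b * cE6.G.tor v₂ = cE6.G.tor v * b := by rw [← hv₂]; group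
  have hm₂ : (c * b)⁻¹ * fmap chevE6 σ (c * b) = b⁻¹ * m * b := by
    rw [map_mul, hb, cE6.G.fmap_nw, hm]
    group
  have hperm : cE6.G.NPerm (b⁻¹ * m * b) cox := by
    rw [← hgc]
    exact Good.NPerm.mul cE6.G (Good.NPerm.mul cE6.G
      (Good.NPerm.inv cE6.G (cE6.G.nPerm_nw lg)) hπ) (cE6.G.nPerm_nw lg)
  have hm₂mon : b⁻¹ * m * b ∈ chevE6.monomialSubgroup K :=
    mul_mem (mul_mem (inv_mem hbm) hn) hbm
  have hv₂1 : v₂ ≠ 1 := by
    rintro rfl
    rw [map_one, mul_one] at hbv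
    exact hv1 (cE6.G.tor_eq_one (mul_eq_right.1 hbv.symm))
  have he₂ : (fun k => (z₂ k : ZMod r)) ≠ 0 := fun h0 => hv₂1 (funext fun k => by
    rw [hz₂, Pi.one_apply, hγ.zpow_eq_one_iff_dvd]
    exact (ZMod.intCast_zmod_eq_zero_iff_dvd _ _).1 (congrFun h0 k))
  have hnv₂ : b⁻¹ * m * b * cE6.G.tor (fun k => v₂ k ^ q) = cE6.G.tor v₂ * (b⁻¹ * m * b) := by
    rw [← hσtor, show cE6.G.tor v₂ = b⁻¹ * cE6.G.tor v * b from hv₂.symm, map_mul, map_mul,
      map_inv, hb, cE6.G.fmap_nw, ← hb, hσtor]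
    calc b⁻¹ * m * b * (b⁻¹ * cE6.G.tor (fun k => v k ^ q) * b)
        = b⁻¹ * (m * cE6.G.tor (fun k => v k ^ q)) * b := by group
      _ = b⁻¹ * (cE6.G.tor v * m) * b := by rw [hmv]
      _ = _ := by group
  have hev₂ : red (ZMod r) (wm cE6 cox) *ᵥ (fun k => (z₂ k : ZMod r)) =
      (q : ZMod r) • (fun k => (z₂ k : ZMod r)) := by
    have := (system_iff hγ (wm cE6 cox) z₂ (q : ℤ)).1 fun j => by
      simp only [← hz₂]
      rw [← chi_perm_simp cE6 v₂ cox j, chi_of_conj cE6 hperm hnv₂, cE6.G.rho_simp,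
        cE6.G.chi_single, zpow_natCast]
    simpa using this
  have hreg₂ : Reg cE6 v₂ := fun s => by
    rw [← chi_of_conj cE6 (cE6.G.nPerm_nw lg) hbv]
    exact hreg _
  refine ⟨c * b, mul_mem hc (nw_mem6 lg), v₂, z₂, ?_, hv₂ ▸ hv2d', hz₂, he₂, hev₂, hreg₂, ?_, ?_⟩
  · rw [← hv₂, ← hcv]; group
  · rw [hm₂]; exact hm₂mon
  · rw [hm₂]; exact hperm

end

variable {F : Type*} [Field F] [Fintype F]

/-- an element over a finite extension that the Frobenius map twists by the Coxeter element -/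
theorem lang_six_aux {r : ℕ} [Fact r.Prime] (hr13 : 12 < r)
    (hprim : IsPrimitiveRoot ((Fintype.card F : ℕ) : ZMod r) 12) (x₀ : ↥(chevE6.group F))
    (hx₀ : orderOf x₀ = r) :
    ∃ c ∈ chevE6.group (AlgebraicClosure F),
      c⁻¹ * fmap chevE6 (FiniteField.frobeniusAlgHom F (AlgebraicClosure F)).toRingHom c ∈
          chevE6.monomialSubgroup (AlgebraicClosure F) ∧
        cE6.G.NPerm (c⁻¹ * fmap chevE6 (FiniteField.frobeniusAlgHom F (AlgebraicClosure F)).toRingHom c) cox := by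
  classical
  have hr : r.Prime := Fact.out
  set q := Fintype.card F with hq
  obtain ⟨p, hp⟩ := CharP.exists F
  haveI : Fact p.Prime := ⟨CharP.char_is_prime F p⟩
  haveI : NeZero 36 := ⟨by norm_num⟩
  let K := FiniteField.Extension F p 36
  letI : Fintype K := Fintype.ofFinite K
  have hcardK : Fintype.card K = q ^ 36 := by
    rw [Fintype.card_eq_nat_card, FiniteField.natCard_extension, hq, Fintype.card_eq_nat_card]
  have hcardU : Nat.card Kˣ = q ^ 36 - 1 := by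
    rw [Nat.card_units, ← Fintype.card_eq_nat_card, hcardK]
  have hcardU' : (Nat.card Kˣ : ℤ) = (q : ℤ) ^ 36 - 1 := by
    rw [hcardU, Nat.cast_sub (Nat.one_le_pow _ _ Fintype.card_pos), Nat.cast_pow, Nat.cast_one]
  have hfac : ((q : ℤ) ^ 12 - 1) * ((q : ℤ) ^ 24 + (q : ℤ) ^ 12 + 1) = (q : ℤ) ^ 36 - 1 := by ring
  have hQ : (Fintype.card K : ZMod r) = 1 := by
    rw [hcardK, Nat.cast_pow]; exact (hprim.pow_eq_one_iff_dvd 36).2 (by norm_num)
  let ι : F →+* K := algebraMap F K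
  let σ : K →+* K := (FiniteField.Extension.frob F p 36).toRingEquiv.toRingHom
  have hσ : ∀ a : K, σ a = a ^ q := fun a => by
    rw [hq, Fintype.card_eq_nat_card]
    exact FiniteField.Extension.frob_apply F p 36
  have hσι : σ.comp ι = ι := RingHom.ext fun a => (FiniteField.Extension.frob F p 36).commutes a
  have hfix : ∀ a, σ a = a → ∃ b, ι b = a := fun a ha => by
    haveI : IsGalois F K := inferInstance
    show a ∈ Set.range (algebraMap F K)
    rw [IsGalois.mem_range_algebraMap_iff_fixed]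
    intro g
    obtain ⟨i, -, rfl⟩ := FiniteField.Extension.exists_frob_pow_eq F p 36 g
    induction i with
    | zero => rfl
    | succ i ih => rw [pow_succ', AlgEquiv.mul_apply, ih]; exact ha
  have hσtor : ∀ u : Fin chevE6.rank → Kˣ,
      fmap chevE6 σ (cE6.G.tor u) = cE6.G.tor (fun i => u i ^ q) := fun u => by
    rw [cE6.G.fmap_tor]
    exact congrArg _ (funext fun i => Units.ext (by simpa using hσ (u i : K)))
  -- the element in diagonal form
  set x := fmap chevE6 ι (x₀ : GL chevE6.Idx F) with hx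
  have hσx : ∀ g : GL chevE6.Idx F, fmap chevE6 σ (fmap chevE6 ι g) = fmap chevE6 ι g := fun g => by
    rw [fmap_fmap, hσι]
  have hxr : x ^ r = 1 := by
    rw [hx, ← map_pow, ← Subgroup.coe_pow, ← hx₀, pow_orderOf_eq_one, Subgroup.coe_one, map_one]
  have hdeg : ∀ i : Fin chevE6.rank, 0 < vecOfList [2, 5, 6, 8, 9, 12] i ∧
      vecOfList [2, 5, 6, 8, 9, 12] i < 13 := by decide +kernel
  obtain ⟨c₀, hc₀, v₀, hv₀d, hxc⟩ := exists_conj_diag6 hr
    (fun i hd => absurd (Nat.le_of_dvd (hdeg i).1 hd) (by have := (hdeg i).2; omega))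
    hQ (cE6.G.fmap_mem_group ι x₀.2) hxr
  have hcv₀ : c₀⁻¹ * x * c₀ = cE6.G.tor v₀ := by rw [mul_assoc, hxc, inv_mul_cancel_left]
  have hvr₀ : v₀ ^ r = 1 := by
    refine cE6.G.tor_eq_one ?_
    rw [map_pow, ← hcv₀, show c₀⁻¹ * x * c₀ = MulAut.conj c₀⁻¹ x by simp, ← map_pow, hxr, map_one]
  have hv₀1 : v₀ ≠ 1 := by
    rintro rfl
    rw [map_one, mul_assoc, inv_mul_eq_one] at hcv₀
    have h1 : x = 1 := by simpa using hcv₀.symm
    rw [hx, map_eq_one_iff _ (fmap_injective ι), OneMemClass.coe_eq_one] at h1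
    rw [h1, orderOf_one] at hx₀
    exact hr.one_lt.ne hx₀
  obtain ⟨γ, hγ'⟩ : ∃ γ : Kˣ, orderOf γ = r := by
    refine exists_prime_orderOf_dvd_card' r ?_
    rw [hcardU, ← ZMod.natCast_eq_zero_iff, Nat.cast_sub (Nat.one_le_pow _ _ Fintype.card_pos),
      Nat.cast_pow, (hprim.pow_eq_one_iff_dvd 36).2 (by norm_num), Nat.cast_one, sub_self]
  have hγ : IsPrimitiveRoot γ r := hγ' ▸ IsPrimitiveRoot.orderOf γ
  obtain ⟨c, hc, v, z, hcv, hvd, hz, he, hev, hreg, hmon, hπ⟩ :=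
    frame hr13 σ hσtor hprim hγ hc₀ (hσx _) hcv₀ hv₀d hvr₀ hv₀1
  haveI : Algebra.IsAlgebraic F K := Algebra.IsAlgebraic.of_finite F K
  let ε : K →+* AlgebraicClosure F := (IsAlgClosed.lift (R := F) (S := K) (M := AlgebraicClosure F)).toRingHom
  set τ := (FiniteField.frobeniusAlgHom F (AlgebraicClosure F)).toRingHom
  have hτ : τ.comp ε = ε.comp σ := RingHom.ext fun a => by
    rw [RingHom.comp_apply, RingHom.comp_apply, hσ, map_pow]
    rfl
  have e : (fmap chevE6 ε c)⁻¹ * fmap chevE6 τ (fmap chevE6 ε c) =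
      fmap chevE6 ε (c⁻¹ * fmap chevE6 σ c) := by
    rw [map_mul, map_inv, fmap_fmap, fmap_fmap, hτ]
  refine ⟨fmap chevE6 ε c, cE6.G.fmap_mem_group ε hc, ?_, ?_⟩
  · rw [e]
    obtain ⟨h, hh, l, hl⟩ := cE6.G.monomial_decomp hmon
    rw [hl, map_mul, cE6.G.fmap_nw]
    exact mul_mem (cE6.G.H_le_monomial (cE6.G.fmap_mem_H ε hh)) (cE6.G.nw_mem_monomial l)
  · rw [e]
    exact nPerm_fmap cE6 ε hmon hπ

/-- an element over the algebraic closure that the Frobenius map twists by the Coxeter element -/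
theorem lang_six :
    ∃ c ∈ chevE6.group (AlgebraicClosure F),
      c⁻¹ * fmap chevE6 (FiniteField.frobeniusAlgHom F (AlgebraicClosure F)).toRingHom c ∈
          chevE6.monomialSubgroup (AlgebraicClosure F) ∧
        cE6.G.NPerm (c⁻¹ * fmap chevE6 (FiniteField.frobeniusAlgHom F (AlgebraicClosure F)).toRingHom c) cox := by
  set q := Fintype.card F
  set n := q ^ 4 - q ^ 2 + 1 with hn
  have h2q : 2 ≤ q := Fintype.one_lt_card
  have hgt : 1 < n := by
    have h24 : q ^ 2 < q ^ 4 := Nat.pow_lt_pow_right (by omega) (by norm_num)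
    omega
  set r := n.minFac
  have hr : r.Prime := Nat.minFac_prime (by omega)
  haveI := Fact.mk hr
  have hrd : r ∣ n := Nat.minFac_dvd n
  have key : ∀ d : ℕ, d ∣ n → (q : ZMod d) ^ 4 - (q : ZMod d) ^ 2 + 1 = 0 := fun d hd => by
    have h := (ZMod.natCast_eq_zero_iff n d).2 hd
    rw [hn, Nat.cast_add, Nat.cast_sub (Nat.pow_le_pow_right (by omega) (by norm_num))] at h
    simpa using h
  have h0 := key r hrd
  have hr2 : r ≠ 2 := fun e => by
    have h := key 2 (e ▸ hrd)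
    revert h
    generalize (q : ZMod 2) = a
    revert a
    decide
  have hr3 : r ≠ 3 := fun e => by
    have h := key 3 (e ▸ hrd)
    revert h
    generalize (q : ZMod 3) = a
    revert a
    decide
  have h6 : (q : ZMod r) ^ 6 = -1 := by linear_combination ((q : ZMod r) ^ 2 + 1) * h0
  have hsmall : (2 : ZMod r) ≠ 0 ∧ (3 : ZMod r) ≠ 0 := by
    constructor
    · intro e
      exact hr2 ((Nat.prime_dvd_prime_iff_eq hr Nat.prime_two).1
        ((ZMod.natCast_eq_zero_iff _ _).1 (by exact_mod_cast e)))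
    · intro e
      exact hr3 ((Nat.prime_dvd_prime_iff_eq hr Nat.prime_three).1
        ((ZMod.natCast_eq_zero_iff _ _).1 (by exact_mod_cast e)))
  have hne4 : (q : ZMod r) ^ 4 ≠ 1 := fun e => by
    -- then `q ^ 2 = 2` and `4 = 1`
    have e2 : (q : ZMod r) ^ 2 = 2 := by linear_combination e - h0
    exact hsmall.2 (by linear_combination e - ((q : ZMod r) ^ 2 + 2) * e2)
  have hord : orderOf (q : ZMod r) = 12 := by
    refine (orderOf_eq_iff (by norm_num)).2 ⟨?_, fun i hi hi0 e => ?_⟩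
    · rw [show (12 : ℕ) = 6 * 2 from rfl, pow_mul, h6]; ring
    · have hd : orderOf (q : ZMod r) ∣ 12 := orderOf_dvd_of_pow_eq_one (by
        rw [show (12 : ℕ) = 6 * 2 from rfl, pow_mul, h6]; ring)
      have hle : orderOf (q : ZMod r) ≤ i := orderOf_le_of_pow_eq_one hi0 e
      have hn6 : ¬ orderOf (q : ZMod r) ∣ 6 := fun h => by
        have := orderOf_dvd_iff_pow_eq_one.1 h
        rw [h6] at this
        exact hsmall.1 (by linear_combination -this)
      have hn4 : ¬ orderOf (q : ZMod r) ∣ 4 := fun h => hne4 (orderOf_dvd_iff_pow_eq_one.1 h)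
      have hpos : 0 < orderOf (q : ZMod r) := Nat.pos_of_dvd_of_pos hd (by norm_num)
      have hlt : orderOf (q : ZMod r) < 12 := by omega
      interval_cases orderOf (q : ZMod r) <;> omega
  have hprim : IsPrimitiveRoot (q : ZMod r) 12 := IsPrimitiveRoot.iff_orderOf.2 hord
  have hr13 : 12 < r := by
    have h12 : 12 ∣ r - 1 := by
      rw [← hord]
      refine orderOf_dvd_of_pow_eq_one (ZMod.pow_card_sub_one_eq_one ?_)
      exact hprim.ne_zero (by norm_num)
    have := Nat.le_of_dvd (by have := hr.two_le; omega) h12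
    omega
  obtain ⟨x₀, hx₀⟩ := exists_prime_order6 hr3 hprim
  exact lang_six_aux hr13 hprim x₀ hx₀

end CfsgLib.Lie.CoxTorusE6
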