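import Cfsg.Agent.Lib.Lie.Chev.CoxE6
import Cfsg.Agent.Lib.Lie.Chev.CoxTorus.E6.WData

/-!
# Elements of the Weyl group of type E₆ with a primitive twelfth root of unity as eigenvalue

The checks: the stabiliser of the highest root has `720` listed elements, every element is conjugate
to a product of one of five fixed words with a listed one, and each of these products either has an
order prime to twelve in the relevant sense, satisfies `N⁸ + N⁶ = N² + 1`, or is a conjugate of the
Coxeter element.
-/

set_option autoImplicit false
set_option maxRecDepth 100000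

namespace CfsgLib.Lie.CoxTorusE6

open Cfsg.Lie CfsgLib.Lie.Chev

/-- the number of roots -/
noncomputable def nR : ℕ := chevE6.nroots

/-- the highest root -/
def top : ℕ := 71

/-- the Coxeter word -/
def coxW : List ℕ := [0, 1, 2, 3, 4, 5]

/-- repeated application -/
noncomputable def iterN (f : ℕ → ℕ) (k x : ℕ) : ℕ := Nat.rec x (fun _ ih => f ih) k

/-- the letters are indices of fundamental roots -/
noncomputable def wordB (l : List ℕ) : Bool := allList l fun i => Nat.blt i 6

/-- the listed stabiliser -/
noncomputable def chkStab : Bool :=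
  (allLt nR fun r => Nat.beq (digit (stP.get 0) r) r) &&
  (allLt 720 fun k => cond (Nat.beq k 0) true
    (Nat.blt (stPar.get k).2 k && Nat.blt (stPar.get k).1 6 &&
      Nat.beq (wF fastE6 (stPar.get k).1 top) top &&
      allLt nR fun r =>
        Nat.beq (digit (stP.get k) r) (wF fastE6 (stPar.get k).1 (digit (stP.get (stPar.get k).2) r)))) &&
  (allLt 720 fun k => Nat.blt (stOrd.get k) 720) &&
  (allLt 719 fun k => Nat.blt (stP.get (stOrd.get k)) (stP.get (stOrd.get (k + 1))))

/-- the transversal and the reduction of the image of the highest root -/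
noncomputable def chkRed (reps : List ℕ) : Bool :=
  allLt nR fun b => wordB (trW.get b) && Nat.beq (wordF fastE6 (trW.get b) top) b &&
    Nat.blt (redK.get b) 720 && memB reps (digit (stP.get (redK.get b)) b)

/-- one candidate -/
noncomputable def candOK (U P : ℕ) (g : List ℕ) : Bool :=
  let p := fun x => digit U (digit P x)
  let ord := fun m => allLt 6 fun i =>
    Nat.beq (iterN p m (fastE6.simples.get i)) (fastE6.simples.get i)
  cond (ord 6) true (cond (ord 8) true (cond (ord 9) true (cond (ord 10) true
    (cond (allLt 6 fun i =>
        (List.zipWith (fun a b => a + b) (fastE6.rho.get (iterN p 8 (fastE6.simples.get i)))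
            (fastE6.rho.get (iterN p 6 (fastE6.simples.get i)))) ==
          List.zipWith (fun a b => a + b) (fastE6.rho.get (iterN p 2 (fastE6.simples.get i)))
            (fastE6.rho.get (fastE6.simples.get i))) true
      (wordB g && allLt 6 fun i =>
        Nat.beq (p (wordF fastE6 g (fastE6.simples.get i)))
          (wordF fastE6 g (wordF fastE6 coxW (fastE6.simples.get i))))))))

/-- the candidates over one representative -/
noncomputable def chkCand (u : List ℕ) (b U : ℕ) (T : CfsgLib.Lie.Chev.Tree (List ℕ)) : Bool :=
  wordB u && Nat.beq (wordF fastE6 u top) b &&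
  (allLt nR fun r => Nat.beq (digit U r) (wordF fastE6 u r)) &&
  allLt 720 fun k => candOK U (stP.get k) (T.get k)

/-- the words to the representatives -/
def uW0 : List ℕ := [1, 3, 4, 2, 3, 0, 2, 1, 3, 4, 5, 4, 3, 2, 1, 3, 4, 0, 2, 3, 1]

/-- the words to the representatives -/
def uW1 : List ℕ := [3, 4, 2, 3, 0, 2, 1, 3, 4, 5, 4, 3, 2, 1, 3, 4, 0, 2, 3, 1]

/-- the words to the representatives -/
def uW2 : List ℕ := [0, 2, 3, 4, 5, 4, 3, 2, 1, 3, 4, 0, 2, 3, 1]

/-- the words to the representatives -/
def uW3 : List ℕ := [3, 4, 5, 2, 3, 4, 0, 2, 3, 1]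

theorem chkStab_ok : chkStab = true := by decide +kernel

theorem chkRed_ok : chkRed [0, 1, 11, 46, 71] = true := by decide +kernel

theorem chkCand0 : chkCand uW0 0 repU0 conjW0 = true := by decide +kernel

theorem chkCand1 : chkCand uW1 1 repU1 conjW1 = true := by decide +kernel

theorem chkCand2 : chkCand uW2 11 repU2 conjW2 = true := by decide +kernel

theorem chkCand3 : chkCand uW3 46 repU3 conjW3 = true := by decide +kernel

theorem chkCand4 : chkCand [] 71 repU4 conjW4 = true := by decide +kernel

end CfsgLib.Lie.CoxTorusE6
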