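import Cfsg.Agent.Lib.Lie.Chev.Homocyclic.Exceptional
import Cfsg.Agent.Lib.Lie.Chev.CoxTorus.WMat
import Cfsg.Agent.Lib.Lie.Chev.CoxTorus.E6.Weyl
import Mathlib.GroupTheory.GroupAction.Quotient

/-!
# Elements of the Weyl group of type E₆ with a primitive twelfth root of unity as eigenvalue are
conjugate to the Coxeter element
-/

set_option autoImplicit false
set_option maxRecDepth 100000

namespace CfsgLib.Lie.CoxTorusE6

open Cfsg.Lie CfsgLib.Lie.Chev CfsgLib.Lie.CoxTorus CfsgLib.Lie.Homocyclic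
open Matrix

/-- a list of indices as a word -/
noncomputable def wordOf (l : List ℕ) : List (Fin chevE6.rank) :=
  l.filterMap fun i => if h : i < chevE6.rank then some ⟨i, h⟩ else none

theorem rank6 : chevE6.rank = 6 := rankE6.symm

theorem wordOf_val : ∀ l : List ℕ, wordB l = true → (wordOf l).map Fin.val = l := by
  intro l hl
  have h := allList_spec hl
  clear hl
  induction l with
  | nil => rfl
  | cons i l ih =>
    have hi : i < chevE6.rank := by
      have := h i (List.mem_cons_self ..)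
      rw [rank6]; exact Nat.blt_eq.mp this
    rw [wordOf, List.filterMap_cons_some (dif_pos hi), List.map_cons]
    exact congrArg (i :: ·) (ih fun j hj => h j (List.mem_cons_of_mem _ hj))

/-- the Coxeter element -/
noncomputable def cox : Equiv.Perm (Fin chevE6.nroots) := cE6.G.pw (wordOf coxW)

/-- the element of a word -/
theorem pwOf_val {l : List ℕ} (hl : wordB l = true) (r : Fin chevE6.nroots) :
    (cE6.G.pw (wordOf l) r).val = wordF fastE6 l r.val := by
  rw [cE6.G.pw_val checksE6, wordOf_val l hl]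

/-- the highest root -/
noncomputable def topR : Fin chevE6.nroots := ⟨top, by decide +kernel⟩

theorem simp_val' (i : Fin chevE6.rank) : (cE6.G.simp' i).val = fastE6.simples.get i.val :=
  (cE6.G.simples_eq' checksE6 i).symm

/-- an element of the group is determined by the images of the fundamental roots -/
theorem ext_simp {π π' : Equiv.Perm (Fin chevE6.nroots)} (hπ : π ∈ cE6.G.Wg) (hπ' : π' ∈ cE6.G.Wg)
    (h : ∀ i, π (cE6.G.simp' i) = π' (cE6.G.simp' i)) : π = π' := by
  have e : wm cE6 π = wm cE6 π' := by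
    ext j k
    simp only [wm, Matrix.of_apply, h]
  ext s : 1
  exact cE6.G.rho_injective (by rw [rho_perm cE6 hπ, rho_perm cE6 hπ', e])

theorem stab_ex : ∀ k < 720, ∃ π ∈ cE6.G.Wg, π topR = topR ∧
    ∀ r : Fin chevE6.nroots, (π r).val = digit (stP.get k) r.val := by
  have h := chkStab_ok
  simp only [chkStab, nR, Bool.and_eq_true] at h
  obtain ⟨⟨⟨h0, hpar⟩, -⟩, -⟩ := h
  intro k
  induction k using Nat.strong_induction_on with
  | _ k ih =>
    intro hk
    by_cases hk0 : k = 0
    · subst hk0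
      exact ⟨1, one_mem _, rfl,
        fun r => (Nat.eq_of_beq_eq_true (allLt_spec h0 r.val r.isLt)).symm⟩
    · have := allLt_spec hpar k hk
      rw [natBeq_false hk0, cond_false] at this
      simp only [Bool.and_eq_true, Nat.blt_eq] at this
      obtain ⟨⟨⟨hp, hi⟩, hfix⟩, he⟩ := this
      obtain ⟨π, hπ, hπt, hπr⟩ := ih _ hp (hp.trans hk)
      refine ⟨cE6.G.sP ⟨_, rank6 ▸ hi⟩ * π, mul_mem (Subgroup.subset_closure ⟨_, rfl⟩) hπ, ?_,
        fun r => ?_⟩
      · rw [Equiv.Perm.mul_apply, hπt, Good.sP_apply]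
        exact Fin.ext ((cE6.G.w_eq_wF checksE6 _ _).trans (Nat.eq_of_beq_eq_true hfix))
      · rw [Equiv.Perm.mul_apply, Good.sP_apply, cE6.G.w_eq_wF checksE6, hπr]
        exact (Nat.eq_of_beq_eq_true (allLt_spec he r.val r.isLt)).symm

/-- the listed stabiliser -/
noncomputable def stPerm (k : Fin 720) : Equiv.Perm (Fin chevE6.nroots) :=
  (stab_ex k.val k.isLt).choose

theorem stPerm_spec (k : Fin 720) : stPerm k ∈ cE6.G.Wg ∧ stPerm k topR = topR ∧
    ∀ r, (stPerm k r).val = digit (stP.get k.val) r.val :=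
  (stab_ex k.val k.isLt).choose_spec

theorem trans_top (b : Fin chevE6.nroots) : ∃ π ∈ cE6.G.Wg, π topR = b := by
  have h := allLt_spec chkRed_ok b.val b.isLt
  simp only [Bool.and_eq_true] at h
  exact ⟨_, cE6.G.pw_mem _, Fin.ext ((pwOf_val h.1.1.1 _).trans (Nat.eq_of_beq_eq_true h.1.1.2))⟩

theorem stPerm_injective : Function.Injective stPerm := by
  have h := chkStab_ok
  simp only [chkStab, nR, Bool.and_eq_true] at h
  obtain ⟨⟨-, hlt⟩, hord⟩ := h
  let σ : Fin 720 → Fin 720 := fun k =>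
    ⟨stOrd.get k.val, Nat.blt_eq.mp (allLt_spec hlt k.val k.isLt)⟩
  have hmono : StrictMono fun k : Fin 720 => stP.get (σ k).val := by
    refine Fin.strictMono_iff_lt_succ.2 fun i => ?_
    exact Nat.blt_eq.mp (allLt_spec hord i.val i.isLt)
  have hσ : Function.Surjective σ :=
    Finite.injective_iff_surjective.1 fun a b e => hmono.injective (by simp only [e])
  have hrec : ∀ j : Fin 720, ∀ k : Fin 720, stPerm j = stPerm k →
      ∀ r : Fin chevE6.nroots, digit (stP.get j.val) r.val = digit (stP.get k.val) r.val :=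
    fun j k e r => by rw [← (stPerm_spec j).2.2, ← (stPerm_spec k).2.2, e]
  have hcode : ∀ j k : Fin 720, stPerm j = stPerm k → stP.get j.val = stP.get k.val := by
    intro j k e
    have h1 : (List.range chevE6.nroots).map (fun r => digit (stP.get j.val) r) =
        (List.range chevE6.nroots).map (fun r => digit (stP.get k.val) r) :=
      List.map_congr_left fun r hr => hrec j k e ⟨r, List.mem_range.1 hr⟩
    have hb : ∀ i : Fin 720, stP.get i.val < 2 ^ (16 * chevE6.nroots) := by decide +kernel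
    refine Nat.eq_of_testBit_eq fun n => ?_
    by_cases hn : n < 16 * chevE6.nroots
    · have h2 := congrArg (fun x => Nat.testBit x (n % 16)) (hrec j k e ⟨n / 16, by omega⟩)
      simp only [digit, Nat.shiftRight_eq, Nat.land] at h2
      have hm : n % 16 < 16 := Nat.mod_lt _ (by norm_num)
      rw [show (65535 : ℕ) = 2 ^ 16 - 1 from rfl] at h2
      change Nat.testBit (_ &&& _) _ = Nat.testBit (_ &&& _) _ at h2
      simpa only [Nat.testBit_and, Nat.testBit_two_pow_sub_one, hm, decide_true, Bool.and_true,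
        Nat.testBit_shiftRight, Nat.div_add_mod] using h2
    · rw [Nat.testBit_eq_false_of_lt ((hb j).trans_le (Nat.pow_le_pow_right two_pos (by omega))),
        Nat.testBit_eq_false_of_lt ((hb k).trans_le (Nat.pow_le_pow_right two_pos (by omega)))]
  intro j k e
  obtain ⟨a, rfl⟩ := hσ j
  obtain ⟨b, rfl⟩ := hσ k
  exact congrArg σ (hmono.injective (hcode _ _ e))

/-- the stabiliser of the highest root is the listed one -/
theorem stab_eq {π : Equiv.Perm (Fin chevE6.nroots)} (hπ : π ∈ cE6.G.Wg) (h : π topR = topR) :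
    ∃ k, stPerm k = π := by
  classical
  have horb : ∀ b : Fin chevE6.nroots, b ∈ MulAction.orbit cE6.G.Wg topR := fun b => by
    obtain ⟨g, hg, rfl⟩ := trans_top b
    exact ⟨⟨g, hg⟩, rfl⟩
  have hcard : Nat.card (MulAction.stabilizer cE6.G.Wg topR) = 720 := by
    have h1 := MulAction.index_stabilizer (G := cE6.G.Wg) (x := topR)
    have h2 := (MulAction.stabilizer cE6.G.Wg topR).card_mul_index
    rw [cardWgE6, h1, Set.ncard_eq_toFinset_card', show (MulAction.orbit cE6.G.Wg topR).toFinset =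
      Finset.univ from Finset.eq_univ_iff_forall.2 fun b => Set.mem_toFinset.2 (horb b),
      Finset.card_univ, Fintype.card_fin] at h2
    have h72 : chevE6.nroots = 72 := by decide +kernel
    exact Nat.eq_of_mul_eq_mul_right (by omega) (h2.trans (show 51840 = 720 * chevE6.nroots by omega))
  let f : Fin 720 → MulAction.stabilizer cE6.G.Wg topR := fun k =>
    ⟨⟨stPerm k, (stPerm_spec k).1⟩, (stPerm_spec k).2.1⟩
  have hf : Function.Bijective f := (Nat.bijective_iff_injective_and_card f).2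
    ⟨fun a b e => stPerm_injective (congrArg (fun x => x.1.1) e), by rw [hcard, Nat.card_fin]⟩
  obtain ⟨k, hk⟩ := hf.2 ⟨⟨π, hπ⟩, h⟩
  exact ⟨k, congrArg (fun x => x.1.1) hk⟩

theorem pow_val {π : Equiv.Perm (Fin chevE6.nroots)} {p : ℕ → ℕ}
    (h : ∀ r, (π r).val = p r.val) : ∀ (m : ℕ) (r : Fin chevE6.nroots),
    ((π ^ m) r).val = iterN p m r.val := by
  intro m
  induction m with
  | zero => intro r; rfl
  | succ m ih =>
    intro r
    rw [pow_succ', Equiv.Perm.mul_apply, h, ih]
    rfl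

theorem rho_getD (s : Fin chevE6.nroots) (k : Fin chevE6.rank) :
    cE6.G.rho s k = (fastE6.rho.get s.val).getD k.val 0 := rfl

theorem rho_len (s : Fin chevE6.nroots) : (fastE6.rho.get s.val).length = chevE6.rank :=
  (rootsOK (rowsOK checksE6.rows) checksE6.roots).len s

/-- what one accepted candidate gives -/
theorem cand_spec {r : ℕ} [Fact r.Prime] {U P : ℕ} {g : List ℕ} (hc : candOK U P g = true)
    {π : Equiv.Perm (Fin chevE6.nroots)} (hπ : π ∈ cE6.G.Wg)
    (hp : ∀ x : Fin chevE6.nroots, (π x).val = digit U (digit P x.val))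
    {e : Fin chevE6.rank → ZMod r} (he : e ≠ 0) {μ : ZMod r} (hμ : IsPrimitiveRoot μ 12)
    (hev : red (ZMod r) (wm cE6 π) *ᵥ e = μ • e) :
    ∃ x ∈ cE6.G.Wg, x⁻¹ * π * x = cox := by
  obtain ⟨j₀, hj⟩ := Function.ne_iff.1 he
  have hit := fun m i => pow_val (p := fun x => digit U (digit P x)) hp m (cE6.G.simp' i)
  have hN : ∀ m, red (ZMod r) (wm cE6 (π ^ m)) *ᵥ e = μ ^ m • e := fun m => by
    rw [wm_pow cE6 hπ, map_pow, pow_mulVec_eigen hev]
  have hord : ∀ m, ¬ 12 ∣ m →
      (allLt 6 fun i => Nat.beq (iterN (fun x => digit U (digit P x)) m (fastE6.simples.get i))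
        (fastE6.simples.get i)) = false := by
    intro m hm
    rw [Bool.eq_false_iff]
    intro h
    have e1 : π ^ m = 1 := ext_simp (pow_mem hπ m) (one_mem _) fun i => Fin.ext (by
      rw [hit, Equiv.Perm.one_apply, simp_val']
      exact Nat.eq_of_beq_eq_true (allLt_spec h i.val (rank6 ▸ i.isLt)))
    have e2 := congrFun (hN m) j₀
    rw [e1, wm_one, map_one, one_mulVec, Pi.smul_apply, smul_eq_mul] at e2
    exact hm (hμ.dvd_of_pow_eq_one m (mul_right_cancel₀ hj (e2.symm.trans (one_mul _).symm)))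
  simp only [candOK, hord 6 (by norm_num), hord 8 (by norm_num), hord 9 (by norm_num),
    hord 10 (by norm_num), cond_false] at hc
  rw [Bool.cond_eq_ite] at hc
  split at hc
  · rename_i hE
    exfalso
    have hrow : ∀ i k, wm cE6 (π ^ 8) i k + wm cE6 (π ^ 6) i k =
        wm cE6 (π ^ 2) i k + (if i = k then 1 else 0 : ℤ) := by
      intro i k
      have h := allLt_spec hE i.val (rank6 ▸ i.isLt)
      rw [← simp_val', ← hit 8 i, ← hit 6 i, ← hit 2 i] at h
      have h1 := congrArg (fun l => l.getD k.val 0) (eq_of_beq h)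
      simp only [List.getD_eq_getElem?_getD, List.getElem?_zipWith] at h1
      have hs : (if i = k then 1 else 0 : ℤ) = cE6.G.rho (cE6.G.simp' i) k := by
        rw [cE6.G.rho_simp, Pi.single_apply]
        simp only [eq_comm]
      simp only [wm, Matrix.of_apply, hs, rho_getD, List.getD_eq_getElem?_getD]
      have hlen : ∀ s, (fastE6.rho.get (s : Fin chevE6.nroots).val)[k.val]? =
          some ((fastE6.rho.get s.val)[k.val]'(by rw [rho_len]; exact k.isLt)) := fun s =>
        List.getElem?_eq_getElem _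
      simp only [hlen, Option.getD_some] at h1 ⊢
      exact h1
    have e2 : red (ZMod r) (wm cE6 (π ^ 8)) + red (ZMod r) (wm cE6 (π ^ 6)) =
        red (ZMod r) (wm cE6 (π ^ 2)) + 1 := by
      ext i k
      simp only [Matrix.add_apply, red_apply, ← Int.cast_add, hrow, Matrix.one_apply]
      split <;> simp
    have e3 := congrFun (congrArg (fun M => M *ᵥ e) e2) j₀
    simp only [add_mulVec, hN, one_mulVec, Pi.add_apply, Pi.smul_apply, smul_eq_mul] at e3
    have e4 : (μ ^ 6 - 1) * (μ ^ 2 + 1) = 0 :=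
      (mul_eq_zero.1 (show ((μ ^ 6 - 1) * (μ ^ 2 + 1)) * e j₀ = 0 by linear_combination e3)
        ).resolve_right hj
    rcases mul_eq_zero.1 e4 with h | h
    · exact hμ.pow_ne_one_of_pos_of_lt (by norm_num) (by norm_num) (sub_eq_zero.1 h)
    · exact hμ.pow_ne_one_of_pos_of_lt (l := 4) (by norm_num) (by norm_num)
        (by linear_combination (μ ^ 2 - 1) * h)
  · simp only [Bool.and_eq_true] at hc
    obtain ⟨hg, hc⟩ := hc
    refine ⟨cE6.G.pw (wordOf g), cE6.G.pw_mem _, ?_⟩
    rw [mul_assoc, inv_mul_eq_iff_eq_mul]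
    refine ext_simp (mul_mem hπ (cE6.G.pw_mem _)) (mul_mem (cE6.G.pw_mem _) (cE6.G.pw_mem _))
      fun i => Fin.ext ?_
    rw [Equiv.Perm.mul_apply, Equiv.Perm.mul_apply, hp, pwOf_val hg, pwOf_val hg, cox,
      pwOf_val (show wordB coxW = true from rfl), simp_val']
    exact Nat.eq_of_beq_eq_true (allLt_spec hc i.val (rank6 ▸ i.isLt))

/-- an element with a primitive twelfth root of unity as eigenvalue is conjugate to the Coxeter element -/
theorem exists_conj_cox {r : ℕ} [Fact r.Prime] {π : Equiv.Perm (Fin chevE6.nroots)}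
    (hπ : π ∈ cE6.G.Wg) {e : Fin chevE6.rank → ZMod r} (he : e ≠ 0) {μ : ZMod r}
    (hμ : IsPrimitiveRoot μ 12) (hev : red (ZMod r) (wm cE6 π) *ᵥ e = μ • e) :
    ∃ x ∈ cE6.G.Wg, x⁻¹ * π * x = cox := by
  have h := allLt_spec chkRed_ok (π topR).val (π topR).isLt
  simp only [Bool.and_eq_true] at h
  obtain ⟨⟨-, hk⟩, hmem⟩ := h
  set k₀ : Fin 720 := ⟨redK.get (π topR).val, Nat.blt_eq.mp hk⟩
  obtain ⟨ht, htt, htr⟩ := stPerm_spec k₀
  set t := stPerm k₀
  set π' := t * π * t⁻¹ with hπ'
  have hπ'W : π' ∈ cE6.G.Wg := mul_mem (mul_mem ht hπ) (inv_mem ht)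
  have hti : t⁻¹ topR = topR := by rw [Equiv.Perm.inv_eq_iff_eq]; exact htt.symm
  have hb : (π' topR).val = digit (stP.get k₀.val) (π topR).val := by
    rw [hπ', Equiv.Perm.mul_apply, Equiv.Perm.mul_apply, hti, htr]
  -- the transformed eigenvector
  have hinj : Function.Injective fun v => red (ZMod r) (wm cE6 t⁻¹) *ᵥ v := fun a b hab => by
    have := congrArg (fun v => red (ZMod r) (wm cE6 t) *ᵥ v) hab
    simp only [mulVec_mulVec, ← map_mul, ← wm_mul cE6 (inv_mem ht), inv_mul_cancel, wm_one, map_one,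
      one_mulVec] at this
    exact this
  have he' : red (ZMod r) (wm cE6 t⁻¹) *ᵥ e ≠ 0 := fun h0 => he (hinj (h0.trans (mulVec_zero _).symm))
  have hev' : red (ZMod r) (wm cE6 π') *ᵥ (red (ZMod r) (wm cE6 t⁻¹) *ᵥ e) =
      μ • (red (ZMod r) (wm cE6 t⁻¹) *ᵥ e) := by
    rw [hπ', wm_mul cE6 (mul_mem ht hπ), wm_mul cE6 ht, mulVec_mulVec, ← map_mul, mul_assoc,
      mul_assoc, ← wm_mul cE6 (inv_mem ht), inv_mul_cancel, wm_one, mul_one, map_mul,
      ← mulVec_mulVec, hev, mulVec_smul]
  suffices key : ∀ (u : List ℕ) (b U : ℕ) (T : CfsgLib.Lie.Chev.Tree (List ℕ)),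
      chkCand u b U T = true → (π' topR).val = b → ∃ x ∈ cE6.G.Wg, x⁻¹ * π' * x = cox by
    obtain ⟨x, hx, hxc⟩ : ∃ x ∈ cE6.G.Wg, x⁻¹ * π' * x = cox := by
      have := memB_spec hmem
      simp only [List.mem_cons, List.not_mem_nil, or_false] at this
      rcases this with e0 | e0 | e0 | e0 | e0
      · exact key _ _ _ _ chkCand0 (hb.trans e0)
      · exact key _ _ _ _ chkCand1 (hb.trans e0)
      · exact key _ _ _ _ chkCand2 (hb.trans e0)
      · exact key _ _ _ _ chkCand3 (hb.trans e0)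
      · exact key _ _ _ _ chkCand4 (hb.trans e0)
    refine ⟨t⁻¹ * x, mul_mem (inv_mem ht) hx, ?_⟩
    rw [← hxc, hπ']
    group
  intro u b U T hc htop
  simp only [chkCand, Bool.and_eq_true] at hc
  obtain ⟨⟨⟨hu, hub⟩, hU⟩, hall⟩ := hc
  set pu := cE6.G.pw (wordOf u)
  have hpt : (pu⁻¹ * π') topR = topR := by
    rw [Equiv.Perm.mul_apply, Equiv.Perm.inv_eq_iff_eq]
    refine Fin.ext ?_
    rw [htop, pwOf_val hu]
    exact (Nat.eq_of_beq_eq_true hub).symm
  obtain ⟨k, hk⟩ := stab_eq (mul_mem (inv_mem (cE6.G.pw_mem _)) hπ'W) hpt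
  refine cand_spec (allLt_spec hall k.val k.isLt) hπ'W (fun x => ?_) he' hμ hev'
  rw [show π' = pu * stPerm k by rw [hk, mul_inv_cancel_left], Equiv.Perm.mul_apply, pwOf_val hu,
    ← Nat.eq_of_beq_eq_true (allLt_spec hU (stPerm k x).val (stPerm k x).isLt),
    (stPerm_spec k).2.2]

end CfsgLib.Lie.CoxTorusE6
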